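import Mathlib.AlgebraicGeometry.Morphisms.Proper
import Mathlib.AlgebraicGeometry.Limits

/-!
# Finite coproducts of proper morphisms
-/

set_option autoImplicit false
set_option backward.isDefEq.respectTransparency false
set_option backward.isDefEq.respectTransparency.types false
set_option linter.style.haveILetI false

universe u

open CategoryTheory CategoryTheory.Limits AlgebraicGeometry

namespace Groth.Agent.Chow17

variable {ι : Type u} [Finite ι] {Y : ι → Scheme.{u}} {X : Scheme.{u}}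

theorem exists_sigmaι (y : (∐ Y : Scheme.{u})) : ∃ i z, (Sigma.ι Y i) z = y := by
  obtain ⟨⟨i, z⟩, rfl⟩ := (sigmaMk Y).surjective y
  exact ⟨i, z, (sigmaMk_mk Y i z).symm⟩

theorem universallyClosed_sigmaDesc (c : ∀ i, Y i ⟶ X) [∀ i, UniversallyClosed (c i)] :
    UniversallyClosed (Sigma.desc c) := by
  refine ⟨fun {X' Y'} i₁ i₂ f' H C hC => ?_⟩
  have key : f' '' C = ⋃ i, (pullback.fst i₁ (Sigma.ι Y i) ≫ f') '' (pullback.fst i₁ (Sigma.ι Y i) ⁻¹' C) := by
    ext t
    constructor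
    · rintro ⟨z, hz, rfl⟩
      obtain ⟨i, w, hw⟩ := exists_sigmaι (i₁ z)
      obtain ⟨v, hv, -⟩ := Scheme.Pullback.exists_preimage_pullback z w hw.symm
      refine Set.mem_iUnion.2 ⟨i, v, ?_, ?_⟩
      · show pullback.fst i₁ (Sigma.ι Y i) v ∈ C
        rw [hv]; exact hz
      · rw [Scheme.Hom.comp_apply, hv]
    · simp only [Set.mem_iUnion]
      rintro ⟨i, v, hv, rfl⟩
      exact ⟨_, hv, (Scheme.Hom.comp_apply _ _ _).symm⟩
  rw [key]
  refine isClosed_iUnion_of_finite fun i => ?_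
  have hp : IsPullback (pullback.snd i₁ (Sigma.ι Y i)) (pullback.fst i₁ (Sigma.ι Y i) ≫ f') (c i) i₂ := by
    have := ((IsPullback.of_hasPullback i₁ (Sigma.ι Y i)).paste_horiz H).flip
    rwa [Sigma.ι_desc] at this
  haveI : UniversallyClosed (pullback.fst i₁ (Sigma.ι Y i) ≫ f') :=
    MorphismProperty.of_isPullback hp inferInstance
  exact (pullback.fst i₁ (Sigma.ι Y i) ≫ f').isClosedMap _ (hC.preimage (pullback.fst i₁ (Sigma.ι Y i)).continuous)

theorem locallyOfFiniteType_sigmaDesc (c : ∀ i, Y i ⟶ X) [∀ i, LocallyOfFiniteType (c i)] :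
    LocallyOfFiniteType (Sigma.desc c) :=
  IsZariskiLocalAtSource.sigmaDesc (P := @LocallyOfFiniteType) fun _ => inferInstance

theorem isAffineHom_sigmaDesc (c : ∀ i, Y i ⟶ X) [∀ i, IsAffineHom (c i)] :
    IsAffineHom (Sigma.desc c) := by
  refine ⟨fun U hU => ?_⟩
  have e : Sigma.desc c ⁻¹ᵁ U = ⨆ i, (Sigma.ι Y i) ''ᵁ (c i ⁻¹ᵁ U) := by
    ext y
    simp only [TopologicalSpace.Opens.coe_iSup, Set.mem_iUnion]
    constructor
    · intro hy
      obtain ⟨i, z, rfl⟩ := exists_sigmaι y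
      refine ⟨i, z, ?_, rfl⟩
      show c i z ∈ U
      rw [← Sigma.ι_desc c i, Scheme.Hom.comp_apply]
      exact hy
    · rintro ⟨i, z, hz, rfl⟩
      show Sigma.desc c (Sigma.ι Y i z) ∈ U
      rw [← Scheme.Hom.comp_apply, Sigma.ι_desc]
      exact hz
  rw [e]
  refine IsAffineOpen.iSup_of_disjoint (fun i => (hU.preimage (c i)).image_of_isOpenImmersion _) fun i j hij => ?_
  exact Disjoint.mono (Scheme.Hom.image_le_opensRange _ _) (Scheme.Hom.image_le_opensRange _ _)
    (disjoint_opensRange_sigmaι Y i j hij)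

theorem isProper_sigmaDesc (c : ∀ i, Y i ⟶ X) [∀ i, IsClosedImmersion (c i)] : IsProper (Sigma.desc c) := by
  haveI := universallyClosed_sigmaDesc c
  haveI := isAffineHom_sigmaDesc c
  haveI := locallyOfFiniteType_sigmaDesc c
  exact ⟨⟩

end Groth.Agent.Chow17
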