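import Groth.Agent.Chow17.Cover
import Groth.Agent.Chow17.Sigma
import Groth.Agent.H23.RedSub
import Mathlib.AlgebraicGeometry.ResidueField

/-!
# A finite stratifying cover with a dense affine open inside every member of an affine cover
-/

set_option autoImplicit false
set_option backward.isDefEq.respectTransparency false
set_option backward.isDefEq.respectTransparency.types false
set_option linter.style.haveILetI false

universe u

open CategoryTheory CategoryTheory.Limits AlgebraicGeometry TopologicalSpace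

namespace Groth.Agent.Chow17

/-- Surjective stalk maps give bijective residue field maps. -/
theorem bijective_residueFieldMap {X Y : Scheme.{u}} (f : X ⟶ Y) (x : X)
    (h : Function.Surjective (f.stalkMap x)) : Function.Bijective (f.residueFieldMap x).hom := by
  refine ⟨RingHom.injective _, fun z => ?_⟩
  obtain ⟨w, rfl⟩ := IsLocalRing.residue_surjective z
  obtain ⟨v, rfl⟩ := h w
  exact ⟨IsLocalRing.residue _ v, rfl⟩

/-- A scheme receives a proper map from one with a dense affine open lying in every member of an affine cover, such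
that every point lifts to the dense open with surjective stalk map. -/
theorem exists_strata_cover (X : Scheme.{u}) [CompactSpace X] [QuasiSeparatedSpace X] :
    ∃ (X₁ : Scheme.{u}) (d : X₁ ⟶ X) (W : X₁.Opens) (m : ℕ) (U : Fin m → X₁.Opens),
      IsProper d ∧ IsAffineOpen W ∧ Dense (W : Set X₁) ∧ (∀ i, IsAffineOpen (U i)) ∧ (∀ i, W ≤ U i) ∧
      (∀ x : X₁, ∃ i, x ∈ U i) ∧
      ∀ x : X, ∃ w ∈ W, d w = x ∧ Function.Surjective (d.stalkMap w) := by
  classical
  obtain ⟨T₀, U₀, hU₀, hUc⟩ := exists_affine_cover (⊤ : X.Opens) isCompact_univ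
  obtain ⟨m, ⟨e⟩⟩ := Finite.exists_equiv_fin ↥T₀
  let U : Fin m → X.Opens := fun i => U₀ (e.symm i).1
  have hU : ∀ i, IsAffineOpen (U i) := fun i => (hU₀ _ (e.symm i).2).1
  have hcov : ∀ x, ∃ i, x ∈ U i := fun x => by
    obtain ⟨t, ht, hxt⟩ := hUc x trivial
    exact ⟨e ⟨t, ht⟩, by simpa [U] using hxt⟩
  let St : Finset (Fin m) → Set X := fun I => {x | ∀ i, x ∈ U i ↔ i ∈ I}
  let Cl : Finset (Fin m) → Closeds X := fun I => ⟨closure (St I), isClosed_closure⟩
  let Y : Finset (Fin m) → Scheme.{u} := fun I => (Scheme.IdealSheafData.vanishingIdeal (Cl I)).subscheme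
  let c : ∀ I, Y I ⟶ X := fun I => (Scheme.IdealSheafData.vanishingIdeal (Cl I)).subschemeι
  have hrc : ∀ I, Set.range (c I) = closure (St I) := fun I => H23.RedSub.range_vanishingIdeal _
  have hmem : ∀ (I : Finset (Fin m)) (y : Y I), ∃ i ∈ I, c I y ∈ U i := fun I y => by
    obtain ⟨i, hi⟩ := hcov (c I y)
    obtain ⟨x, hx, hxS⟩ := mem_closure_iff.1 ((hrc I).le ⟨y, rfl⟩) _ (U i).2 hi
    exact ⟨i, (hxS i).1 hx, hi⟩
  let O : ∀ I, (Y I).Opens := fun I => I.inf fun i => c I ⁻¹ᵁ U i
  haveI hYq : ∀ I, QuasiSeparatedSpace (Y I) := fun I => quasiSeparatedSpace_of_quasiSeparated (c I)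
  haveI hYc : ∀ I, CompactSpace (Y I) := fun I => QuasiCompact.compactSpace_of_compactSpace (c I)
  have hO : ∀ I, IsCompact (O I : Set (Y I)) := fun I => by
    refine Finset.inf_induction (p := fun V : (Y I).Opens => IsCompact (V : Set (Y I))) ?_ ?_ ?_
    · simpa using isCompact_univ (X := Y I)
    · intro a ha b hb
      exact QuasiSeparatedSpace.inter_isCompact (a : Set (Y I)) b a.2 ha b.2 hb
    · exact fun i _ => ((hU i).preimage (c I)).isCompact
  choose T A hA hAc using fun I => exists_affine_cover (O I) (hO I)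
  let P := Σ I : Finset (Fin m), ↥(T I)
  let B : ∀ p : P, (Y p.1).Opens := fun p => A p.1 p.2.1
  have hBA : ∀ p : P, IsAffineOpen (B p) := fun p => (hA p.1 p.2.1 p.2.2).1
  have hBU : ∀ (p : P) i, i ∈ p.1 → B p ≤ c p.1 ⁻¹ᵁ U i := fun p i hi =>
    (hA p.1 p.2.1 p.2.2).2.trans (Finset.inf_le hi)
  haveI : ∀ p : P, CompactSpace (B p).toScheme := fun p => isCompact_iff_compactSpace.1 (hBA p).isCompact
  haveI : ∀ p : P, QuasiCompact (B p).ι := fun p => inferInstance
  let Z : P → Scheme.{u} := fun p => (B p).ι.image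
  let g : ∀ p : P, Z p ⟶ Y p.1 := fun p => (B p).ι.imageι
  let b : ∀ p : P, Z p ⟶ X := fun p => g p ≫ c p.1
  haveI : ∀ p : P, IsClosedImmersion (b p) := fun p => inferInstance
  haveI := isProper_sigmaDesc b
  let B' : ∀ p : P, (Z p).Opens := fun p => g p ⁻¹ᵁ B p
  have hB'd : ∀ p : P, Dense (B' p : Set (Z p)) := fun p => by
    refine (B p).ι.toImage.denseRange.mono ?_
    rintro _ ⟨a, rfl⟩
    show g p ((B p).ι.toImage a) ∈ B p
    rw [← Scheme.Hom.comp_apply, Scheme.Hom.toImage_imageι]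
    exact a.2
  let κ := {pi : P × Fin m // pi.2 ∈ pi.1.1}
  let V : κ → ∀ q : P, (Z q).Opens := fun k q =>
    if q = k.1.1 then b q ⁻¹ᵁ U k.1.2 else B' q
  have hV : ∀ k q, IsAffineOpen (V k q) := fun k q => by
    by_cases h : q = k.1.1
    · simp only [V, if_pos h]; exact (hU _).preimage (b q)
    · simp only [V, if_neg h]; exact (hBA q).preimage (g q)
  have hBV : ∀ k q, B' q ≤ V k q := fun k q => by
    by_cases h : q = k.1.1
    · simp only [V, if_pos h]
      intro z hz
      exact hBU q k.1.2 (h ▸ k.2) hz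
    · simp only [V, if_neg h]; exact le_rfl
  have hdis : ∀ (O' : ∀ q, (Z q).Opens), Pairwise (Function.onFun Disjoint fun q => Sigma.ι Z q ''ᵁ O' q) :=
    fun O' q r hqr => Disjoint.mono (Scheme.Hom.image_le_opensRange _ _) (Scheme.Hom.image_le_opensRange _ _)
      (disjoint_opensRange_sigmaι Z q r hqr)
  let W : (∐ Z : Scheme.{u}).Opens := ⨆ q, Sigma.ι Z q ''ᵁ B' q
  have hW : IsAffineOpen W :=
    .iSup_of_disjoint (fun q => ((hBA q).preimage (g q)).image_of_isOpenImmersion _) (hdis _)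
  have hWd : Dense (W : Set ↥(∐ Z : Scheme.{u})) := fun y => by
    obtain ⟨q, z, rfl⟩ := exists_sigmaι y
    refine closure_mono ?_ (image_closure_subset_closure_image (Sigma.ι Z q).continuous ⟨z, hB'd q z, rfl⟩)
    rintro _ ⟨w, hw, rfl⟩
    exact Opens.mem_iSup.2 ⟨q, w, hw, rfl⟩
  obtain ⟨m', ⟨e'⟩⟩ := Finite.exists_equiv_fin κ
  refine ⟨∐ Z, Sigma.desc b, W, m', fun i => ⨆ q, Sigma.ι Z q ''ᵁ V (e'.symm i) q, inferInstance, hW, hWd,
    fun i => .iSup_of_disjoint (fun q => (hV _ q).image_of_isOpenImmersion _) (hdis _),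
    fun i => iSup_mono fun q => Scheme.Hom.image_mono _ (hBV _ q), fun y => ?_, fun x => ?_⟩
  · obtain ⟨q, z, rfl⟩ := exists_sigmaι y
    obtain ⟨i, hi, hzi⟩ := hmem q.1 (g q z)
    refine ⟨e' ⟨(q, i), hi⟩, Opens.mem_iSup.2 ⟨q, z, ?_, rfl⟩⟩
    simp only [V, e'.symm_apply_apply, if_pos]
    exact hzi
  · let I : Finset (Fin m) := Finset.univ.filter fun i => x ∈ U i
    have hxS : x ∈ St I := fun i => by simp [I]
    obtain ⟨y, hy⟩ := (hrc I).ge (subset_closure hxS)
    have hyO : y ∈ O I := by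
      refine Finset.inf_induction (p := fun V : (Y I).Opens => y ∈ V) trivial
        (fun a ha b hb => ⟨ha, hb⟩) fun i hi => ?_
      show c I y ∈ U i
      rw [hy]
      exact (hxS i).2 hi
    obtain ⟨t, ht, hyt⟩ := hAc I y hyO
    let p : P := ⟨I, t, ht⟩
    let z := (B p).ι.toImage ⟨y, hyt⟩
    have hz : z ∈ B' p := by
      show g p ((B p).ι.toImage ⟨y, hyt⟩) ∈ B p
      rw [← Scheme.Hom.comp_apply, Scheme.Hom.toImage_imageι]
      exact hyt
    refine ⟨Sigma.ι Z p z, Opens.mem_iSup.2 ⟨p, z, hz, rfl⟩, ?_, ?_⟩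
    · rw [← Scheme.Hom.comp_apply, Sigma.ι_desc, ← Scheme.Hom.comp_apply]
      simp only [b, g, Scheme.Hom.toImage_imageι_assoc]
      exact hy
    · have h : Function.Surjective ((Sigma.ι Z p ≫ Sigma.desc b).stalkMap z) := by
        rw [Sigma.ι_desc]
        exact (b p).stalkMap_surjective z
      rw [Scheme.Hom.stalkMap_comp] at h
      intro s
      obtain ⟨v, hv⟩ := h ((Sigma.ι Z p).stalkMap z s)
      exact ⟨v, (ConcreteCategory.bijective_of_isIso ((Sigma.ι Z p).stalkMap z)).1 hv⟩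

end Groth.Agent.Chow17
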