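import Groth.Agent.Chow17.Main
import Groth.Agent.ProjCl17.Basic
import Groth.Agent.RelVA16.PnBridge
import Groth.Agent.S9695
import Groth.Agent.H28.KRRReg

/-!
# Birational Chow lemma
-/

set_option autoImplicit false
set_option backward.isDefEq.respectTransparency false
set_option backward.isDefEq.respectTransparency.types false
set_option linter.style.haveILetI false

universe u

open CategoryTheory CategoryTheory.Limits AlgebraicGeometry TopologicalSpace

namespace Groth.Agent.Chow17

open CohB1

variable {X S : Scheme.{u}}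

theorem exists_birational_chow (r : X ⟶ S) [IsSeparated r] [LocallyOfFiniteType r] [QuasiCompact r]
    (h : AlgebraicGeometry.IsNoetherian S ∨ (CompactSpace S ∧ S.IsSeparated ∧ (irreducibleComponents X).Finite)) :
    ∃ (X' : Scheme.{u}) (π : X' ⟶ X), RelProj.IsQuasiProjective (π ≫ r) ∧ RelProj.IsProjective π ∧
      Surjective π ∧ (∃ L : X'.Modules, RelProj.IsRelVeryAmple (π ≫ r) L) ∧
      (∃ U : X.Opens, Dense (U : Set X) ∧ Dense ((π ⁻¹ᵁ U : X'.Opens) : Set X') ∧ IsIso (π ∣_ U)) ∧
      (IsReduced X → IsReduced X') ∧ (IrreducibleSpace X → IrreducibleSpace X') := by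
  have hbase : CompactSpace S ∧ QuasiSeparatedSpace S ∧ (irreducibleComponents X).Finite ∧
      ((CompactSpace X ∧ X.IsSeparated) ∨ NoetherianSpace X) := by
    rcases h with hN | ⟨hc, hs, hf⟩
    · haveI := hN
      haveI : IsLocallyNoetherian X := LocallyOfFiniteType.isLocallyNoetherian r
      haveI : CompactSpace X := QuasiCompact.compactSpace_of_compactSpace r
      haveI : AlgebraicGeometry.IsNoetherian X := { }
      haveI : NoetherianSpace X := inferInstance
      exact ⟨inferInstance, inferInstance, NoetherianSpace.finite_irreducibleComponents, Or.inr inferInstance⟩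
    · haveI := hc
      haveI := hs
      refine ⟨hc, inferInstance, hf, Or.inl ⟨QuasiCompact.compactSpace_of_compactSpace r, ⟨?_⟩⟩⟩
      rw [← terminal.comp_from r]
      infer_instance
  obtain ⟨hc, hqs, hirr, hX⟩ := hbase
  haveI : CompactSpace X := QuasiCompact.compactSpace_of_compactSpace r
  obtain ⟨W, m, U, hW, hWd, hU, hWU, hcov⟩ := exists_dense_affine_cover hirr
  obtain ⟨n, X', π, j, hj, hjc, hp, hsub, ⟨w, hwd, hwπ⟩, hiso⟩ :=
    exists_chow r W hW.isCompact U hU hWU hcov
  haveI := hp
  haveI := hwd
  haveI : IsProper (ProjSpaceOver.toBase n S) := isProper_toBase _ _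
  haveI : QuasiCompact (j ≫ ProjSpaceOver.toBase n S) := by rw [hjc]; infer_instance
  haveI : QuasiCompact j := QuasiCompact.of_comp j (ProjSpaceOver.toBase n S)
  let L := (Scheme.Modules.pullback j).obj (Twist.twistOver n S 1)
  have hpn : RelAmple.IsRelVeryAmplePn (π ≫ r) L := ⟨n, j, hj, hjc, ⟨Iso.refl _⟩⟩
  have hL : PicF.IsInvertible L := PicClLib.isInvertible_pullback j (H28.KRRReg.isInvertible_twistOver 1)
  have hva := RelVA16.isRelVeryAmple_of_pn hL hpn
  have hsurj : Surjective π := ⟨fun x =>
    closure_minimal hsub π.isClosedMap.isClosed_range (hWd x)⟩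
  haveI : QuasiCompact W.ι := by
    haveI : QuasiSeparatedSpace X := quasiSeparatedSpace_of_quasiSeparated r
    haveI : CompactSpace W.toScheme := isCompact_iff_compactSpace.1 hW.isCompact
    infer_instance
  haveI : QuasiCompact (w ≫ π) := by rw [hwπ]; infer_instance
  haveI : QuasiCompact w := QuasiCompact.of_comp w π
  refine ⟨X', π, ⟨inferInstance, inferInstance, L, S9695.isRelAmple_of_veryAmplePn _ hpn⟩,
    RelVA16.isProjective_of_isProper_of_va hX (RelVA16.isRelVeryAmple_of_comp π r hva), hsurj, ⟨L, hva⟩,
    ⟨W, hWd, ?_, hiso⟩, fun hred => ?_, fun hirrX => ?_⟩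
  · refine Dense.mono ?_ w.denseRange
    rintro _ ⟨z, rfl⟩
    show π (w z) ∈ W
    rw [← Scheme.Hom.comp_apply, hwπ]
    exact z.2
  · exact IsSchemeTheoreticallyDominant.isReduced w
  · have h1 : IsPreirreducible (W : Set X) :=
      (PreirreducibleSpace.isPreirreducible_univ (X := X)).open_subset W.2 (Set.subset_univ _)
    haveI : PreirreducibleSpace W.toScheme := isPreirreducible_iff_preirreducibleSpace.1 h1
    have h2 : IsPreirreducible (Set.range w) := by
      rw [← Set.image_univ]
      exact (PreirreducibleSpace.isPreirreducible_univ).image _ w.continuous.continuousOn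
    obtain ⟨x₀⟩ := hirrX.toNonempty
    obtain ⟨y, hy⟩ := hWd.nonempty
    exact { isPreirreducible_univ := by rw [← w.denseRange.closure_eq]; exact h2.closure
            toNonempty := ⟨w ⟨y, hy⟩⟩ }

end Groth.Agent.Chow17
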