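import Groth.Agent.Chow17.QPn
import Groth.Agent.VAmpleX.Segre
import Groth.Agent.Approx.Basic
import Mathlib.AlgebraicGeometry.Morphisms.Immersion

/-!
# The construction in Chow's lemma
-/

set_option autoImplicit false
set_option backward.isDefEq.respectTransparency false
set_option backward.isDefEq.respectTransparency.types false
set_option linter.style.haveILetI false

universe u

open CategoryTheory CategoryTheory.Limits AlgebraicGeometry

namespace Groth.Agent.Chow17

open CohB1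

variable {X S : Scheme.{u}}

theorem qpn_id (S : Scheme.{u}) : QPn (𝟙 S) := by
  obtain ⟨n, i, hi, hc⟩ := qpn_of_isAffine (𝟙 (Spec (CommRingCat.of (ULift.{u} ℤ))))
  let s : S ⟶ ProjSpaceOver n S := pullback.lift (specULiftZIsTerminal.from S ≫ i ≫ pullback.fst _ _) (𝟙 S)
    (specULiftZIsTerminal.hom_ext _ _)
  have hs : s ≫ ProjSpaceOver.toBase n S = 𝟙 S := pullback.lift_snd _ _ _
  haveI : IsImmersion (s ≫ ProjSpaceOver.toBase n S) := by rw [hs]; infer_instance
  exact ⟨n, s, IsImmersion.of_comp s (ProjSpaceOver.toBase n S), hs⟩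

/-- A finite fibre product. -/
theorem exists_product : ∀ (m : ℕ) (P : Fin m → Scheme.{u}) (q : ∀ i, P i ⟶ S),
    (∀ i, QPn (q i)) → (∀ i, IsProper (q i)) →
    ∃ (Q : Scheme.{u}) (r : Q ⟶ S) (pr : ∀ i, Q ⟶ P i), QPn r ∧ IsProper r ∧ (∀ i, pr i ≫ q i = r) ∧
      ∀ (W : Scheme.{u}) (s : W ⟶ S) (a : ∀ i, W ⟶ P i), (∀ i, a i ≫ q i = s) →
        ∃ w : W ⟶ Q, w ≫ r = s ∧ ∀ i, w ≫ pr i = a i
  | 0, _, _, _, _ => ⟨S, 𝟙 S, fun i => i.elim0, qpn_id S, inferInstance, fun i => i.elim0,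
      fun W s a _ => ⟨s, Category.comp_id s, fun i => i.elim0⟩⟩
  | m + 1, P, q, hq, hp => by
    obtain ⟨Q, r, pr, hr, hrp, hpr, huniv⟩ :=
      exists_product m (fun i => P i.succ) (fun i => q i.succ) (fun i => hq _) (fun i => hp _)
    haveI := hp 0
    refine ⟨pullback (q 0) r, pullback.fst _ _ ≫ q 0,
      Fin.cases (pullback.fst _ _) (fun i => pullback.snd _ _ ≫ pr i), (hq 0).prod hr, inferInstance,
      Fin.cases rfl (fun i => by simp [hpr, pullback.condition]), fun W s a ha => ?_⟩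
    obtain ⟨w, hw, hw'⟩ := huniv W s (fun i => a i.succ) (fun i => ha _)
    exact ⟨pullback.lift (a 0) w ((ha 0).trans hw.symm), by simp [ha],
      Fin.cases (by simp) (fun i => by simp [hw'])⟩

/-- Lifting through a closed immersion along a schematically dominant morphism. -/
theorem exists_lift {A B Z T : Scheme.{u}} (w : A ⟶ B) [IsSchemeTheoreticallyDominant w] (j : Z ⟶ T)
    [IsClosedImmersion j] (h : B ⟶ T) (g : A ⟶ Z) (hg : g ≫ j = w ≫ h) : ∃ h' : B ⟶ Z, h' ≫ j = h := by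
  have hle : (pullback.snd j h).ker ≤ ⊥ := by
    rw [← w.ker_eq_bot]
    conv_rhs => rw [← pullback.lift_snd g w hg]
    exact Scheme.Hom.le_ker_comp _ _
  haveI := IsClosedImmersion.isIso_iff_ker_eq_bot.mpr (le_bot_iff.mp hle)
  exact ⟨inv (pullback.snd j h) ≫ pullback.fst j h, by rw [Category.assoc, pullback.condition, IsIso.inv_hom_id_assoc]⟩

theorem isSTDom_toImage' {A B : Scheme.{u}} (f : A ⟶ B) [QuasiCompact f] : IsSchemeTheoreticallyDominant f.toImage := by
  refine ⟨Scheme.IdealSheafData.ext_of_iSup_eq_top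
    (fun U : B.affineOpens => (⟨f.imageι ⁻¹ᵁ U.1, U.2.preimage f.imageι⟩ : f.image.affineOpens)) ?_ fun U => ?_⟩
  · rw [← Scheme.Hom.preimage_iSup, iSup_affineOpens_eq_top]
    rfl
  · rw [Scheme.Hom.ker_apply]
    exact ((RingHom.injective_iff_ker_eq_bot _).1 (f.toImage_app_injective U)).trans (by simp)

theorem isSTDom_restrict {A B : Scheme.{u}} (f : A ⟶ B) [IsSchemeTheoreticallyDominant f] [QuasiCompact f]
    (U : B.Opens) : IsSchemeTheoreticallyDominant (f ∣_ U) :=
  IsSchemeTheoreticallyDominant.of_isPullback (isPullback_morphismRestrict f U).flip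

/-- Chow's construction: a modification immersing into projective space. -/
theorem exists_chow (f : X ⟶ S) [IsSeparated f] [LocallyOfFiniteType f] [QuasiCompact f]
    [QuasiSeparatedSpace S] (W : X.Opens) (hW : IsCompact (W : Set X)) {m : ℕ} (U : Fin m → X.Opens)
    (hU : ∀ i, IsAffineOpen (U i)) (hWU : ∀ i, W ≤ U i) (hcov : ∀ x : X, ∃ i, x ∈ U i) :
    ∃ (n : ℕ) (X' : Scheme.{u}) (π : X' ⟶ X) (j : X' ⟶ ProjSpaceOver n S),
      IsImmersion j ∧ j ≫ ProjSpaceOver.toBase n S = π ≫ f ∧ IsProper π ∧ (W : Set X) ⊆ Set.range π ∧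
      (∃ w : W.toScheme ⟶ X', IsSchemeTheoreticallyDominant w ∧ w ≫ π = W.ι) ∧ IsIso (π ∣_ W) := by
  haveI : ∀ i, IsAffine (U i).toScheme := fun i => hU i
  haveI : CompactSpace W.toScheme := isCompact_iff_compactSpace.1 hW
  have hQ : ∀ i, QPn ((U i).ι ≫ f) := fun i => qpn_of_isAffine _
  choose d e he hec using hQ
  obtain ⟨Q, r, pr, hr, hrp, hpr, huniv⟩ := exists_product m (fun i => ProjSpaceOver (d i) S)
    (fun i => ProjSpaceOver.toBase (d i) S)
    (fun i => ⟨d i, 𝟙 _, inferInstance, Category.id_comp _⟩) (fun i => isProper_toBase _ _)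
  obtain ⟨N, k, hk, hkc⟩ := hr
  obtain ⟨w, hw, hwe⟩ := huniv W.toScheme (W.ι ≫ f) (fun i => X.homOfLE (hWU i) ≫ e i)
    (fun i => by rw [Category.assoc, hec, Scheme.homOfLE_ι_assoc])
  let γ : W.toScheme ⟶ pullback f r := pullback.lift W.ι w hw.symm
  haveI : QuasiSeparatedSpace ↥(pullback f r) :=
    quasiSeparatedSpace_of_quasiSeparated (pullback.fst f r ≫ f)
  haveI : QuasiCompact γ := inferInstance
  haveI := isSTDom_toImage' γ
  let j₀ : W.toScheme ⟶ γ.image := γ.toImage
  let π : γ.image ⟶ X := γ.imageι ≫ pullback.fst f r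
  let p : γ.image ⟶ Q := γ.imageι ≫ pullback.snd f r
  haveI hd : ∀ A : γ.image.Opens, IsSchemeTheoreticallyDominant (j₀ ∣_ A) := fun A => isSTDom_restrict _ A
  have hπf : π ≫ f = p ≫ r := by simp only [π, p, Category.assoc, pullback.condition]
  have hjπ : j₀ ≫ π = W.ι := by
    simp only [j₀, π, Scheme.Hom.toImage_imageι_assoc, γ, pullback.lift_fst]
  have hjp : j₀ ≫ p = w := by
    simp only [j₀, p, Scheme.Hom.toImage_imageι_assoc, γ, pullback.lift_snd]
  have himm : IsImmersion p := by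
    refine VAmpleX.isImmersion_of_immersion_on p
      (fun i : ULift.{u} (Fin m) => pr i.down ⁻¹ᵁ (e i.down).coborderRange) (fun x => ?_) (fun ⟨i⟩ => ?_)
    · obtain ⟨i, hi⟩ := hcov (π x)
      refine ⟨⟨i⟩, ?_⟩
      let A := π ⁻¹ᵁ U i
      have hA : (π ∣_ U i) ≫ e i = A.ι ≫ p ≫ pr i := by
        have hres : (j₀ ∣_ A) ≫ (π ∣_ U i) = (j₀ ⁻¹ᵁ A).ι ≫ X.homOfLE (hWU i) := by
          rw [← cancel_mono (U i).ι]
          simp only [Category.assoc, morphismRestrict_ι, Scheme.homOfLE_ι]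
          rw [morphismRestrict_ι_assoc, hjπ]
        refine Approx.ext_of_schDom (j₀ ∣_ A) (ProjSpaceOver.toBase (d i) S) _ _ ?_ ?_
        · simp only [Category.assoc, hec, hpr]
          rw [morphismRestrict_ι_assoc, hπf]
        · rw [reassoc_of% hres, morphismRestrict_ι_assoc, reassoc_of% hjp, hwe]
      have h1 : (p ≫ pr i) x ∈ Set.range (e i) := ⟨(π ∣_ U i) ⟨x, hi⟩, congr($hA (⟨x, hi⟩ : A.toScheme))⟩
      rw [← (e i).liftCoborder_ι] at h1
      obtain ⟨z, hz⟩ := h1
      show (p ≫ pr i) x ∈ (e i).coborderRange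
      rw [← hz]
      exact ((e i).liftCoborder z).2
    · haveI := he i
      let O := (e i).coborderRange
      let O' := pr i ⁻¹ᵁ O
      let V := p ⁻¹ᵁ O'
      let g : V.toScheme ⟶ O.toScheme := (p ∣_ O') ≫ (pr i ∣_ O)
      have hg : g ≫ O.ι = V.ι ≫ p ≫ pr i := by
        simp only [g, Category.assoc, morphismRestrict_ι, O']
        rw [morphismRestrict_ι_assoc]
      let g' : (j₀ ⁻¹ᵁ V).toScheme ⟶ (U i).toScheme := (j₀ ⁻¹ᵁ V).ι ≫ X.homOfLE (hWU i)
      have hg' : g' ≫ (e i).liftCoborder = (j₀ ∣_ V) ≫ g := by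
        rw [← cancel_mono O.ι]
        simp only [Category.assoc, hg, g', O, Scheme.Hom.liftCoborder_ι]
        rw [morphismRestrict_ι_assoc, reassoc_of% hjp, hwe]
      obtain ⟨h, hh⟩ := exists_lift (j₀ ∣_ V) (e i).liftCoborder g g' hg'
      have hhe : h ≫ e i = V.ι ≫ p ≫ pr i := by
        rw [← hg, ← (e i).liftCoborder_ι, ← Category.assoc, hh]
      have hhπ : h ≫ (U i).ι = V.ι ≫ π := by
        refine Approx.ext_of_schDom (j₀ ∣_ V) f _ _ ?_ ?_
        · rw [Category.assoc, Category.assoc, hπf, ← hec i, reassoc_of% hhe, hpr]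
        · have hjh : (j₀ ∣_ V) ≫ h = g' := by
            rw [← cancel_mono (e i).liftCoborder, Category.assoc, hh, hg']
          rw [reassoc_of% hjh, morphismRestrict_ι_assoc, hjπ]
          simp [g']
      let M := pullback (e i).liftCoborder (pr i ∣_ O)
      let c : V.toScheme ⟶ M := pullback.lift h (p ∣_ O') hh
      let ψ : M ⟶ pullback f r := pullback.lift (pullback.fst _ _ ≫ (U i).ι) (pullback.snd _ _ ≫ O'.ι) (by
        have e1 : (U i).ι ≫ f = (e i).liftCoborder ≫ O.ι ≫ ProjSpaceOver.toBase (d i) S := by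
          rw [← hec, Scheme.Hom.liftCoborder_ι_assoc]
        have e2 : O'.ι ≫ r = (pr i ∣_ O) ≫ O.ι ≫ ProjSpaceOver.toBase (d i) S := by
          rw [morphismRestrict_ι_assoc, hpr]
        rw [Category.assoc, Category.assoc, e1, e2]
        exact pullback.condition_assoc _)
      haveI : IsImmersion (c ≫ ψ) := by
        have : c ≫ ψ = V.ι ≫ γ.imageι := by
          apply pullback.hom_ext
          · simp only [c, ψ, Category.assoc, pullback.lift_fst, pullback.lift_fst_assoc, hhπ, π]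
          · simp only [c, ψ, Category.assoc, pullback.lift_snd, pullback.lift_snd_assoc, p]
            exact (morphismRestrict_ι p O').trans rfl
        rw [this]
        infer_instance
      haveI : IsImmersion c := IsImmersion.of_comp c ψ
      show IsImmersion (p ∣_ O')
      rw [show (p ∣_ O') = c ≫ pullback.snd _ _ from (pullback.lift_snd _ _ _).symm]
      infer_instance
  refine ⟨N, γ.image, π, p ≫ k, inferInstance, by rw [Category.assoc, hkc, hπf],
    inferInstance, fun x hx => ⟨j₀ ⟨x, hx⟩, congr($hjπ (⟨x, hx⟩ : W.toScheme))⟩,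
    ⟨j₀, inferInstance, hjπ⟩, ?_⟩
  let A := π ⁻¹ᵁ W
  let c : W.toScheme ⟶ A.toScheme := IsOpenImmersion.lift A.ι j₀ (by
    rw [Scheme.Opens.range_ι]
    rintro _ ⟨z, rfl⟩
    show π (j₀ z) ∈ W
    rw [← Scheme.Hom.comp_apply, hjπ]
    exact z.2)
  have hc : c ≫ A.ι = j₀ := IsOpenImmersion.lift_fac _ _ _
  have hres : (j₀ ∣_ A) ≫ (π ∣_ W) = (j₀ ⁻¹ᵁ A).ι := by
    rw [← cancel_mono W.ι, Category.assoc, morphismRestrict_ι, morphismRestrict_ι_assoc, hjπ]
  have hAp : (π ∣_ W) ≫ w = A.ι ≫ p := by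
    refine Approx.ext_of_schDom (j₀ ∣_ A) r _ _ ?_ ?_
    · rw [Category.assoc, Category.assoc, hw, morphismRestrict_ι_assoc, hπf]
    · rw [reassoc_of% hres, morphismRestrict_ι_assoc, hjp]
  refine ⟨c, ?_, ?_⟩
  · rw [← cancel_mono A.ι, Category.assoc, hc, ← cancel_mono γ.imageι, Category.id_comp, Category.assoc,
      Scheme.Hom.toImage_imageι]
    apply pullback.hom_ext
    · simp only [γ, Category.assoc, pullback.lift_fst, morphismRestrict_ι, A, π]
    · simp only [γ, Category.assoc, pullback.lift_snd, hAp, p]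
  · rw [← cancel_mono W.ι, Category.assoc, morphismRestrict_ι, reassoc_of% hc, hjπ, Category.id_comp]

end Groth.Agent.Chow17
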