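import Mathlib.AlgebraicGeometry.Limits
import Mathlib.AlgebraicGeometry.Morphisms.QuasiCompact
import Mathlib.Topology.Sober
import Mathlib.AlgebraicGeometry.Properties

/-!
# Dense affine opens inside every member of an affine cover
-/

set_option autoImplicit false
set_option backward.isDefEq.respectTransparency false
set_option backward.isDefEq.respectTransparency.types false
set_option linter.style.haveILetI false

universe u

open CategoryTheory CategoryTheory.Limits AlgebraicGeometry TopologicalSpace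

namespace Groth.Agent.Chow17

variable {X : Scheme.{u}}

/-- Finitely many affine opens covering a compact open, inside it. -/
theorem exists_affine_cover (O : X.Opens) (hO : IsCompact (O : Set X)) :
    ∃ (T : Finset X) (A : X → X.Opens), (∀ t ∈ T, IsAffineOpen (A t) ∧ A t ≤ O) ∧
      ∀ x ∈ O, ∃ t ∈ T, x ∈ A t := by
  classical
  have hx : ∀ x : X, ∃ A : X.Opens, x ∈ O → IsAffineOpen A ∧ A ≤ O ∧ x ∈ A := fun x => by
    by_cases h : x ∈ O
    · obtain ⟨_, ⟨A, hA, rfl⟩, hxA, hAO⟩ := X.isBasis_affineOpens.exists_subset_of_mem_open h O.2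
      exact ⟨A, fun _ => ⟨hA, hAO, hxA⟩⟩
    · exact ⟨⊤, fun h' => absurd h' h⟩
  choose A hA using hx
  obtain ⟨T, hTO, hTf, hT⟩ := hO.elim_finite_subcover_image (b := (O : Set X)) (c := fun x => (A x : Set X))
    (fun x _ => (A x).2) (fun x hx => Set.mem_biUnion hx (hA x hx).2.2)
  refine ⟨hTf.toFinset, A, fun t ht => ?_, fun x hx => ?_⟩
  · exact ⟨(hA t (hTO (hTf.mem_toFinset.1 ht))).1, (hA t (hTO (hTf.mem_toFinset.1 ht))).2.1⟩
  · obtain ⟨t, ht, hxt⟩ := Set.mem_iUnion₂.1 (hT hx)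
    exact ⟨t, hTf.mem_toFinset.2 ht, hxt⟩

/-- With finitely many irreducible components, a finite affine cover all of whose members contain one dense
affine open. -/
theorem exists_dense_affine_cover [CompactSpace X] (hirr : (irreducibleComponents (X : Type u)).Finite) :
    ∃ (W : X.Opens) (m : ℕ) (U : Fin m → X.Opens), IsAffineOpen W ∧ Dense (W : Set X) ∧
      (∀ i, IsAffineOpen (U i)) ∧ (∀ i, W ≤ U i) ∧ ∀ x : X, ∃ i, x ∈ U i := by
  classical
  obtain ⟨T, A, hA, hAc⟩ := exists_affine_cover (⊤ : X.Opens) isCompact_univ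
  let C := ↥(irreducibleComponents (X : Type u))
  haveI : Finite C := hirr.to_subtype
  let η : C → X := fun Z => Z.2.1.genericPoint
  have hη : ∀ Z : C, IsGenericPoint (η Z) Z.1 := fun Z =>
    Z.2.1.isGenericPoint_genericPoint (isClosed_of_mem_irreducibleComponents _ Z.2)
  have hG : ∀ Z : C, ∃ W : X.Opens, IsAffineOpen W ∧ η Z ∈ W ∧ (W : Set X) ⊆ Z.1 ∧
      (∀ Z' : C, Z' ≠ Z → Disjoint (W : Set X) Z'.1) ∧ ∀ t ∈ T, η Z ∈ A t → W ≤ A t := by
    intro Z
    let R : Set (Set X) := irreducibleComponents X \ {Z.1}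
    have hcl : IsClosed (⋃₀ R) := by
      rw [Set.sUnion_eq_biUnion]
      exact hirr.sdiff.isClosed_biUnion fun s hs => isClosed_of_mem_irreducibleComponents _ hs.1
    have hηR : η Z ∉ ⋃₀ R := by
      rintro ⟨Y, ⟨hY, hne⟩, hηY⟩
      have hsub : Z.1 ⊆ Y := by
        rw [← (hη Z).def]
        exact closure_minimal (Set.singleton_subset_iff.2 hηY) (isClosed_of_mem_irreducibleComponents _ hY)
      exact hne (Set.Subset.antisymm (Z.2.2 hY.1 hsub) hsub)
    let G : X.Opens := (T.filter fun t => η Z ∈ A t).inf A ⊓ ⟨(⋃₀ R)ᶜ, hcl.isOpen_compl⟩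
    have hηG : η Z ∈ G := ⟨Finset.inf_induction (p := fun V : X.Opens => η Z ∈ V) trivial
      (fun a ha b hb => ⟨ha, hb⟩) (fun t ht => (Finset.mem_filter.1 ht).2), hηR⟩
    obtain ⟨_, ⟨W, hW, rfl⟩, hηW, hWG⟩ := X.isBasis_affineOpens.exists_subset_of_mem_open hηG G.2
    refine ⟨W, hW, hηW, fun w hw => ?_, fun Z' hne => Set.disjoint_left.2 fun w hw hw' => ?_,
      fun t ht hηt w hw => ?_⟩
    · by_contra hne
      exact (hWG hw).2 ⟨irreducibleComponent w, ⟨irreducibleComponent_mem_irreducibleComponents w,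
        fun h => hne ((Set.mem_singleton_iff.1 h) ▸ mem_irreducibleComponent)⟩, mem_irreducibleComponent⟩
    · exact (hWG hw).2 ⟨Z'.1, ⟨Z'.2, fun h => hne (Subtype.ext h)⟩, hw'⟩
    · exact (Finset.inf_le (Finset.mem_filter.2 ⟨ht, hηt⟩) : _ ≤ A t) (hWG hw).1
  choose W hW hηW hWZ hdisj hle using hG
  have hWdisj : Pairwise (Function.onFun Disjoint W) := fun Z Z' hne => by
    show Disjoint (W Z) (W Z')
    rw [← Opens.coe_disjoint]
    exact (hdisj Z Z' (Ne.symm hne)).mono_right (hWZ Z')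
  let W₀ : X.Opens := ⨆ Z, W Z
  have hW₀ : IsAffineOpen W₀ := .iSup_of_disjoint hW hWdisj
  let U : T → X.Opens := fun t => A t.1 ⊔ ⨆ Z : {Z : C // η Z ∉ A t.1}, W Z.1
  have hU : ∀ t, IsAffineOpen (U t) := fun t => by
    refine (hA t.1 t.2).1.sup_of_disjoint (.iSup_of_disjoint (fun Z => hW _)
      fun Z Z' hne => hWdisj fun h => hne (Subtype.ext h)) ?_
    rw [← Opens.coe_disjoint, Opens.coe_iSup, Set.disjoint_iUnion_right]
    rintro ⟨Z, hZ⟩
    refine Set.disjoint_left.2 fun w hwA hwW => hZ ?_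
    exact ((hη Z).specializes (hWZ Z hwW)).mem_open (A t.1).2 hwA
  have hWU : ∀ t, W₀ ≤ U t := fun t => iSup_le fun Z => by
    by_cases h : η Z ∈ A t.1
    · exact (hle Z t.1 t.2 h).trans le_sup_left
    · exact (le_iSup (fun Z : {Z : C // η Z ∉ A t.1} => W Z.1) ⟨Z, h⟩).trans le_sup_right
  have hWd : Dense (W₀ : Set X) := fun x => by
    let Z : C := ⟨irreducibleComponent x, irreducibleComponent_mem_irreducibleComponents x⟩
    have h1 : η Z ∈ (W₀ : Set X) := Opens.mem_iSup.2 ⟨Z, hηW Z⟩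
    exact closure_mono (Set.singleton_subset_iff.2 h1) ((hη Z).def.symm ▸ mem_irreducibleComponent)
  obtain ⟨m, ⟨e⟩⟩ := Finite.exists_equiv_fin ↥T
  refine ⟨W₀, m, fun i => U (e.symm i), hW₀, hWd, fun i => hU _, fun i => hWU _, fun x => ?_⟩
  obtain ⟨t, ht, hxt⟩ := hAc x trivial
  refine ⟨e ⟨t, ht⟩, ?_⟩
  simp only [e.symm_apply_apply]
  exact (le_sup_left : A t ≤ U ⟨t, ht⟩) hxt

end Groth.Agent.Chow17
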