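import Groth.Agent.Chow17.Core
import Groth.Agent.Chow17.Cover
import Groth.Agent.Chow17.Strata
import Mathlib.Topology.Sober

/-!
# Chow's lemma over a quasi-separated base
-/

set_option autoImplicit false
set_option backward.isDefEq.respectTransparency false
set_option backward.isDefEq.respectTransparency.types false
set_option linter.style.haveILetI false

universe u

open CategoryTheory CategoryTheory.Limits AlgebraicGeometry TopologicalSpace

namespace Groth.Agent.Chow17

open CohB1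

variable {X S : Scheme.{u}}

/-- Chow's construction with a dense open. -/
theorem exists_chow' (f : X ⟶ S) [IsSeparated f] [LocallyOfFiniteType f] [QuasiCompact f]
    [QuasiSeparatedSpace S] (W : X.Opens) (hW : IsCompact (W : Set X)) (hWd : Dense (W : Set X))
    {κ : Type*} [Finite κ] (U : κ → X.Opens)
    (hU : ∀ i, IsAffineOpen (U i)) (hWU : ∀ i, W ≤ U i) (hcov : ∀ x : X, ∃ i, x ∈ U i) :
    ∃ (n : ℕ) (X' : Scheme.{u}) (π : X' ⟶ X) (j : X' ⟶ ProjSpaceOver n S),
      IsImmersion j ∧ j ≫ ProjSpaceOver.toBase n S = π ≫ f ∧ IsProper π ∧ Surjective π ∧ IsIso (π ∣_ W) := by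
  obtain ⟨m, ⟨e⟩⟩ := Finite.exists_equiv_fin κ
  obtain ⟨n, X', π, j, hj, hc, hp, hsub, -, hiso⟩ := exists_chow f W hW (fun i => U (e.symm i)) (fun i => hU _)
    (fun i => hWU _) (fun x => by obtain ⟨i, hi⟩ := hcov x; exact ⟨e i, by simpa using hi⟩)
  refine ⟨n, X', π, j, hj, hc, hp, ⟨fun x => ?_⟩, hiso⟩
  have h : closure (W : Set X) ⊆ Set.range π := closure_minimal hsub π.isClosedMap.isClosed_range
  exact h (hWd x)

/-- Chow's lemma with a dense open, for finitely many irreducible components. -/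
theorem chow_finite_components (f : X ⟶ S) [CompactSpace S] [QuasiSeparatedSpace S]
    [IsSeparated f] [LocallyOfFiniteType f] [QuasiCompact f]
    (hirr : (irreducibleComponents (X : Type u)).Finite) :
    ∃ (n : ℕ) (X' : Scheme.{u}) (π : X' ⟶ X) (j : X' ⟶ ProjSpaceOver n S),
      IsImmersion j ∧ j ≫ ProjSpaceOver.toBase n S = π ≫ f ∧ IsProper π ∧ Surjective π ∧
      ∃ U : X.Opens, Dense (U : Set X) ∧ IsIso (π ∣_ U) := by
  haveI : CompactSpace X := QuasiCompact.compactSpace_of_compactSpace f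
  obtain ⟨W₀, m, U, hW₀, hWd, hU, hWU, hcov⟩ := exists_dense_affine_cover hirr
  obtain ⟨n, X', π, j, hj, hc, hp, hs, hiso⟩ := exists_chow' f W₀ hW₀.isCompact hWd U hU hWU hcov
  exact ⟨n, X', π, j, hj, hc, hp, hs, W₀, hWd, hiso⟩

/-- Chow's lemma. -/
theorem chow (f : X ⟶ S) [CompactSpace S] [QuasiSeparatedSpace S]
    [IsSeparated f] [LocallyOfFiniteType f] [QuasiCompact f] :
    ∃ (n : ℕ) (X' : Scheme.{u}) (π : X' ⟶ X) (j : X' ⟶ ProjSpaceOver n S),
      IsImmersion j ∧ j ≫ ProjSpaceOver.toBase n S = π ≫ f ∧ IsProper π ∧ Surjective π := by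
  haveI : CompactSpace X := QuasiCompact.compactSpace_of_compactSpace f
  haveI : QuasiSeparatedSpace X := quasiSeparatedSpace_of_quasiSeparated f
  obtain ⟨X₁, d, W, m, U, hd, hW, hWd, hU, hWU, hcov, hlift⟩ := exists_strata_cover X
  haveI := hd
  obtain ⟨n, X', π, j, hj, hc, hp, hs, -⟩ := exists_chow' (d ≫ f) W hW.isCompact hWd U hU hWU hcov
  haveI : Surjective d := ⟨fun x => by
    obtain ⟨w, -, hw, -⟩ := hlift x
    exact ⟨w, hw⟩⟩
  haveI := hp
  haveI := hs
  exact ⟨n, X', π ≫ d, j, hj, by rw [hc, Category.assoc], inferInstance, inferInstance⟩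

end Groth.Agent.Chow17
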