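import Groth.Agent.Chow17.Core
import Groth.Agent.Chow17.Cover
import Groth.Agent.ProjCl17.Basic
import Groth.Agent.RelVA16.Qcqs
import Groth.Agent.RelVA16.PnBridge
import Groth.Agent.S9695
import Groth.Agent.H28.KRRReg

/-!
# Chow's lemma near one nonempty open
-/

set_option autoImplicit false
set_option backward.isDefEq.respectTransparency false
set_option backward.isDefEq.respectTransparency.types false
set_option linter.style.haveILetI false

universe u

open CategoryTheory CategoryTheory.Limits AlgebraicGeometry TopologicalSpace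

namespace Groth.Agent.Chow17

open CohB1

variable {X S : Scheme.{u}}

theorem exists_chow_open (f : X ⟶ S) [CompactSpace S] [QuasiSeparatedSpace S] [IsSeparated f]
    [LocallyOfFiniteType f] [QuasiCompact f] [Nonempty X] :
    ∃ (X' : Scheme.{u}) (π : X' ⟶ X), RelProj.IsProjective π ∧ RelProj.IsQuasiProjective (π ≫ f) ∧
      ∃ U : X.Opens, (U : Set X).Nonempty ∧ IsIso (π ∣_ U) := by
  classical
  haveI : CompactSpace X := QuasiCompact.compactSpace_of_compactSpace f
  haveI : QuasiSeparatedSpace X := quasiSeparatedSpace_of_quasiSeparated f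
  obtain ⟨T₀, U₀, hU₀, hUc⟩ := exists_affine_cover (⊤ : X.Opens) isCompact_univ
  obtain ⟨m, ⟨e⟩⟩ := Finite.exists_equiv_fin ↥T₀
  let U : Fin m → X.Opens := fun i => U₀ (e.symm i).1
  have hU : ∀ i, IsAffineOpen (U i) := fun i => (hU₀ _ (e.symm i).2).1
  have hcov : ∀ x, ∃ i, x ∈ U i := fun x => by
    obtain ⟨t, ht, hxt⟩ := hUc x trivial
    exact ⟨e ⟨t, ht⟩, by simpa [U] using hxt⟩
  let O : Finset (Fin m) → X.Opens := fun J => J.inf U
  obtain ⟨x₀⟩ := ‹Nonempty X›
  obtain ⟨J, hJ, hmax⟩ := (Finset.univ.filter fun J => (O J : Set X).Nonempty).exists_max_image Finset.card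
    ⟨∅, Finset.mem_filter.2 ⟨Finset.mem_univ _, x₀, by simp [O]⟩⟩
  obtain ⟨x, hx⟩ := (Finset.mem_filter.1 hJ).2
  obtain ⟨W, hW, hxW, hWO⟩ := exists_isAffineOpen_mem_and_subset (U := O J) hx
  haveI : CompactSpace W.toScheme := isCompact_iff_compactSpace.1 hW.isCompact
  haveI : QuasiCompact W.ι := inferInstance
  let c := W.ι.imageι
  let X₁ := W.ι.image
  have hmem : ∀ y : X₁, ∃ i ∈ J, c y ∈ U i := fun y => by
    obtain ⟨i, hi⟩ := hcov (c y)
    refine ⟨i, ?_, hi⟩
    by_contra hiJ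
    obtain ⟨z, hz⟩ := W.ι.toImage.denseRange.exists_mem_open (c ⁻¹ᵁ U i).2 ⟨y, hi⟩
    have hzi : W.ι z ∈ U i := by
      have h : W.ι.imageι (W.ι.toImage z) ∈ U i := hz
      rw [← Scheme.Hom.comp_apply, Scheme.Hom.toImage_imageι] at h
      exact h
    have hins : (O (insert i J) : Set X).Nonempty := ⟨W.ι z, by
      show W.ι z ∈ (insert i J).inf U
      rw [Finset.inf_insert]
      exact ⟨hzi, hWO z.2⟩⟩
    have := hmax _ (Finset.mem_filter.2 ⟨Finset.mem_univ _, hins⟩)
    rw [Finset.card_insert_of_notMem hiJ] at this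
    omega
  obtain ⟨k, ⟨g⟩⟩ := Finite.exists_equiv_fin ↥J
  let W₁ : X₁.Opens := c ⁻¹ᵁ W
  haveI : IsSeparated (c ≫ f) := inferInstance
  obtain ⟨n, X', π₁, j, hj, hjc, hp, -, -, hiso⟩ :=
    exists_chow (c ≫ f) W₁ (hW.preimage c).isCompact (fun i => c ⁻¹ᵁ U (g.symm i).1)
      (fun i => (hU _).preimage c) (fun i => c.preimage_mono ((show W ≤ J.inf U from hWO).trans (Finset.inf_le (g.symm i).2)))
      (fun y => by
        obtain ⟨i, hi, hyi⟩ := hmem y
        exact ⟨g ⟨i, hi⟩, by simpa using hyi⟩)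
  haveI := hp
  haveI : IsProper (π₁ ≫ c) := inferInstance
  haveI : IsProper (ProjSpaceOver.toBase n S) := isProper_toBase _ _
  have hjc' : j ≫ ProjSpaceOver.toBase n S = (π₁ ≫ c) ≫ f := by rw [hjc, Category.assoc]
  haveI : QuasiCompact (j ≫ ProjSpaceOver.toBase n S) := by rw [hjc']; infer_instance
  haveI : QuasiCompact j := QuasiCompact.of_comp j (ProjSpaceOver.toBase n S)
  let L := (Scheme.Modules.pullback j).obj (Twist.twistOver n S 1)
  have hpn : RelAmple.IsRelVeryAmplePn ((π₁ ≫ c) ≫ f) L := ⟨n, j, hj, hjc', ⟨Iso.refl _⟩⟩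
  have hL : PicF.IsInvertible L := PicClLib.isInvertible_pullback j (H28.KRRReg.isInvertible_twistOver 1)
  have hva := RelVA16.isRelVeryAmple_of_comp (π₁ ≫ c) f (RelVA16.isRelVeryAmple_of_pn hL hpn)
  refine ⟨X', π₁ ≫ c, RelVA16.isProjective_of_isQuasiProjective
    ⟨inferInstance, inferInstance, L, S5721.result _ L hL hva⟩,
    ⟨inferInstance, inferInstance, L, S9695.isRelAmple_of_veryAmplePn _ hpn⟩, W, ⟨x, hxW⟩, ?_⟩
  haveI : IsIso (c ∣_ W) := by
    let s : W.toScheme ⟶ W₁.toScheme := IsOpenImmersion.lift W₁.ι W.ι.toImage (by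
      rw [Scheme.Opens.range_ι]
      rintro _ ⟨z, rfl⟩
      show W.ι.imageι (W.ι.toImage z) ∈ W
      rw [← Scheme.Hom.comp_apply, Scheme.Hom.toImage_imageι]
      exact z.2)
    have hs : s ≫ (c ∣_ W) = 𝟙 _ := by
      rw [← cancel_mono W.ι, Category.assoc, morphismRestrict_ι, Category.id_comp]
      show s ≫ W₁.ι ≫ c = _
      rw [IsOpenImmersion.lift_fac_assoc, Scheme.Hom.toImage_imageι]
    refine ⟨s, ?_, hs⟩
    rw [← cancel_mono (c ∣_ W), Category.assoc, hs, Category.comp_id, Category.id_comp]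
  haveI : IsIso (π₁ ∣_ (c ⁻¹ᵁ W)) := hiso
  rw [morphismRestrict_comp]
  exact IsIso.comp_isIso

end Groth.Agent.Chow17
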