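import Groth.Agent.ProjAmple17.Basic
import Groth.Agent.AmpleX.QuasiAffine

/-!
# Morphisms immersing into projective space over the base
-/

set_option autoImplicit false
set_option backward.isDefEq.respectTransparency false
set_option backward.isDefEq.respectTransparency.types false
set_option linter.style.haveILetI false

universe u

open CategoryTheory CategoryTheory.Limits AlgebraicGeometry

namespace Groth.Agent.Chow17

open CohB1

/-- `f` factors as an immersion into a projective space over the base. -/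
def QPn {X S : Scheme.{u}} (f : X ⟶ S) : Prop :=
  ∃ (n : ℕ) (i : X ⟶ ProjSpaceOver n S), IsImmersion i ∧ i ≫ ProjSpaceOver.toBase n S = f

instance isProper_toBase (n : ℕ) (S : Scheme.{u}) : IsProper (ProjSpaceOver.toBase n S) :=
  MorphismProperty.pullback_snd _ _ (PnCoh.Chow.isProper_toSpec n _)

/-- A morphism of finite type with affine source. -/
theorem qpn_of_isAffine {X S : Scheme.{u}} (f : X ⟶ S) [IsAffine X] [LocallyOfFiniteType f] [QuasiCompact f] :
    QPn f := by
  obtain ⟨n, i, hi, -, hc⟩ := ProjAmple17.exists_immersion_of_isAmple f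
    (AmpleX.isAmple_of_isQuasiAffine (L := Coh.structureModule X) (InvX.isInvertible_structureModule (X := X)))
  exact ⟨n, i, hi, hc⟩

/-- The product of two projective spaces over the integers immerses into a third. -/
theorem exists_segre (a b : ℕ) :
    ∃ (N : ℕ) (k : ProjSpaceOver b (ProjSpace a (ULift.{u} ℤ)) ⟶ ProjSpace N (ULift.{u} ℤ)),
      IsImmersion k ∧ k ≫ ProjSpace.toSpec N (ULift.{u} ℤ) =
        ProjSpaceOver.toBase b _ ≫ ProjSpace.toSpec a (ULift.{u} ℤ) := by
  let Z := ULift.{u} ℤ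
  let P := ProjSpace a Z
  haveI : IsProper (ProjSpace.toSpec a Z) := PnCoh.Chow.isProper_toSpec a _
  have hZ : ∃ N : (Spec (CommRingCat.of Z)).Modules, IsAmple N :=
    ⟨_, AmpleX.isAmple_of_isQuasiAffine (L := Coh.structureModule _) InvX.isInvertible_structureModule⟩
  have hP : ∃ N : P.Modules, IsAmple N := by
    let j : P ⟶ ProjSpaceOver a (Spec (CommRingCat.of Z)) :=
      pullback.lift (𝟙 P) (ProjSpace.toSpec a Z) (specULiftZIsTerminal.hom_ext _ _)
    have hj : j ≫ ProjSpaceOver.toBase a _ = ProjSpace.toSpec a Z := pullback.lift_snd _ _ _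
    haveI : IsImmersion (j ≫ pullback.fst _ _) := by
      rw [pullback.lift_fst]; infer_instance
    haveI : IsImmersion j := IsImmersion.of_comp j (pullback.fst _ _)
    haveI : QuasiCompact (j ≫ ProjSpaceOver.toBase a _) := by rw [hj]; infer_instance
    haveI : QuasiCompact j := QuasiCompact.of_comp j (ProjSpaceOver.toBase a _)
    obtain ⟨L, hL⟩ := ProjAmple17.exists_isRelAmple_of_immersion j
    exact ProjAmple17.exists_isAmple_of_isRelAmple hZ _ hL
  obtain ⟨L, hL⟩ := ProjAmple17.exists_isRelAmple_of_immersion (𝟙 (ProjSpaceOver b P))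
  obtain ⟨M, hM⟩ := ProjAmple17.exists_isAmple_of_isRelAmple hP _ hL
  obtain ⟨N, i, hi, -, hc⟩ :=
    ProjAmple17.exists_immersion_of_isAmple (ProjSpaceOver.toBase b P ≫ ProjSpace.toSpec a Z) hM
  haveI : IsIso (pullback.fst (ProjSpace.toSpec N Z) (specULiftZIsTerminal.from (Spec (CommRingCat.of Z)))) := by
    rw [specULiftZIsTerminal.hom_ext (specULiftZIsTerminal.from (Spec (CommRingCat.of Z))) (𝟙 _)]
    infer_instance
  refine ⟨N, i ≫ pullback.fst _ _, inferInstance, ?_⟩
  rw [Category.assoc, pullback.condition, ← Category.assoc]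
  exact (congrArg (· ≫ _) hc).trans (by rw [specULiftZIsTerminal.hom_ext (specULiftZIsTerminal.from _) (𝟙 _), Category.comp_id])

/-- Fibre products. -/
theorem QPn.prod {X Y S : Scheme.{u}} {f : X ⟶ S} {g : Y ⟶ S} (hf : QPn f) (hg : QPn g) :
    QPn (pullback.fst f g ≫ f) := by
  obtain ⟨a, i, hi, rfl⟩ := hf
  obtain ⟨b, j, hj, rfl⟩ := hg
  obtain ⟨N, k, hk, hkc⟩ := exists_segre.{u} a b
  let qa := ProjSpaceOver.toBase a S
  let qb := ProjSpaceOver.toBase b S
  let R := ProjSpaceOver b (ProjSpace a (ULift.{u} ℤ))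
  let m₀ : pullback (i ≫ qa) (j ≫ qb) ⟶ R :=
    pullback.lift (pullback.snd _ _ ≫ j ≫ pullback.fst _ _) (pullback.fst _ _ ≫ i ≫ pullback.fst _ _)
      (specULiftZIsTerminal.hom_ext _ _)
  let m : pullback (i ≫ qa) (j ≫ qb) ⟶
      pullback (ProjSpaceOver.toBase b _ ≫ ProjSpace.toSpec a (ULift.{u} ℤ)) (specULiftZIsTerminal.from S) :=
    pullback.lift m₀ (pullback.fst _ _ ≫ i ≫ qa) (specULiftZIsTerminal.hom_ext _ _)
  let da : pullback (ProjSpaceOver.toBase b _ ≫ ProjSpace.toSpec a (ULift.{u} ℤ)) (specULiftZIsTerminal.from S) ⟶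
      ProjSpaceOver a S := pullback.lift (pullback.fst _ _ ≫ pullback.snd _ _) (pullback.snd _ _)
      (specULiftZIsTerminal.hom_ext _ _)
  let db : pullback (ProjSpaceOver.toBase b _ ≫ ProjSpace.toSpec a (ULift.{u} ℤ)) (specULiftZIsTerminal.from S) ⟶
      ProjSpaceOver b S := pullback.lift (pullback.fst _ _ ≫ pullback.fst _ _) (pullback.snd _ _)
      (specULiftZIsTerminal.hom_ext _ _)
  have hd : da ≫ qa = db ≫ qb := by
    simp only [da, db, qa, qb, ProjSpaceOver.toBase, pullback.lift_snd]
  haveI : IsImmersion (m ≫ pullback.lift da db hd) := by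
    have e : m ≫ pullback.lift da db hd =
        pullback.map (i ≫ qa) (j ≫ qb) qa qb i j (𝟙 S) (Category.comp_id _) (Category.comp_id _) := by
      apply pullback.hom_ext <;> apply pullback.hom_ext <;>
        simp [m, m₀, da, db, qa, qb, ProjSpaceOver.toBase, pullback.condition]
    rw [e]
    exact MorphismProperty.pullbackMap (P := @IsImmersion) hi hj rfl rfl
  haveI : IsImmersion m := IsImmersion.of_comp m (pullback.lift da db hd)
  let n : pullback (ProjSpaceOver.toBase b _ ≫ ProjSpace.toSpec a (ULift.{u} ℤ)) (specULiftZIsTerminal.from S) ⟶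
      ProjSpaceOver N S :=
    pullback.map _ _ _ _ k (𝟙 S) (𝟙 _) (by rw [Category.comp_id, hkc]) (by rw [Category.comp_id, Category.id_comp])
  haveI : IsImmersion n := by
    exact MorphismProperty.pullbackMap (P := @IsImmersion) hk inferInstance hkc.symm (Category.id_comp _).symm
  refine ⟨N, m ≫ n, inferInstance, ?_⟩
  simp [m, n, qa, qb, ProjSpaceOver.toBase]

end Groth.Agent.Chow17
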